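import Mathlib
import Cfsg.Prelude.Def_Transfer
import Cfsg.Agent.Transfer.NormalPComplement
import Cfsg.Agent.H482.SylowNumbers

/-!
# `p`-nilpotence and Sylow numbers: reduction of S3932 to simple groups

* `forward` : a group with a normal `p`-complement has all Sylow numbers prime to `p`;
* `of_simple` : the converse for `G`, from the statement for non-abelian simple groups.
-/

set_option autoImplicit false

namespace Cfsg.Agent.H482.PNilpRed

open Subgroup Cfsg.Agent.H482.SylowNumbers Cfsg.Agent.Transfer.NormalPComplement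

universe u

/-- **(⇒)**: in a group with a normal `p`-complement no Sylow number is divisible by `p`. -/
theorem forward {G : Type*} [Group G] [Finite G] {p : ℕ} [hp : Fact p.Prime]
    (h : Cfsg.HasNormalPComplement p G) (r : ℕ) [hr : Fact r.Prime] :
    ¬ p ∣ Nat.card (Sylow r G) := by
  by_cases hpr : r = p
  · subst hpr
    exact not_dvd_card_sylow r G
  obtain ⟨N, hN, h1, h2⟩ := hasNormalPComplement_iff.mp h
  obtain ⟨R⟩ : Nonempty (Sylow r G) := inferInstance
  have hRN : (R : Subgroup G) ≤ N := by
    intro x hx
    obtain ⟨k, hk⟩ := (IsPGroup.iff_orderOf.mp R.2) ⟨x, hx⟩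
    rw [Subgroup.orderOf_mk] at hk
    rw [mem_iff_coprime_orderOf' N h1 h2, hk]
    exact Nat.Coprime.pow_left _ ((Nat.coprime_primes hr.out hp.out).2 hpr)
  have h3 : normalizer ((R : Subgroup G) : Set G) ⊔ N = ⊤ := R.normalizer_sup_eq_top' hRN
  have h4 := index_eq_relIndex_of_sup _ N h3
  rw [card_eq_index R, h4]
  intro hd
  have h5 : (normalizer ((R : Subgroup G) : Set G)).relIndex N ∣ Nat.card N :=
    Subgroup.relIndex_dvd_card _ _
  exact hp.out.one_lt.ne' (Nat.Coprime.eq_one_of_dvd h1.symm (hd.trans h5))

/-- If `N` is normal with a normal `p`-complement and `G / N` is a `p`-group, then `G` has a normal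
`p`-complement. -/
theorem of_normal {G : Type*} [Group G] [Finite G] {p : ℕ} [hp : Fact p.Prime] (N : Subgroup G)
    [N.Normal] (hN : Cfsg.HasNormalPComplement p N) (hG : IsPGroup p (G ⧸ N)) :
    Cfsg.HasNormalPComplement p G := by
  rw [hasNormalPComplement_iff_coprime] at hN ⊢
  have hle : Cfsg.pResidual p G ≤ (Cfsg.pResidual p N).map N.subtype := by
    rw [Cfsg.pResidual, closure_le]
    intro x hx
    have hx' : (orderOf x).Coprime p := hx
    have hxN : x ∈ N := by
      have := map_eq_one_of_coprime hG (QuotientGroup.mk' N) hx'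
      rwa [QuotientGroup.mk'_apply, QuotientGroup.eq_one_iff] at this
    refine ⟨⟨x, hxN⟩, mem_pResidual_of_coprime ?_, rfl⟩
    rwa [Subgroup.orderOf_mk]
  refine Nat.Coprime.coprime_dvd_left ((Subgroup.card_dvd_of_le hle).trans ?_) hN
  exact Subgroup.card_map_dvd _ _

/-- A group with a central Sylow `p`-subgroup has a normal `p`-complement. -/
theorem of_central_sylow {G : Type*} [Group G] [Finite G] {p : ℕ} [hp : Fact p.Prime]
    (P : Sylow p G) (hP : (P : Subgroup G) ≤ center G) : Cfsg.HasNormalPComplement p G := by
  have h : normalizer ((P : Subgroup G) : Set G) ≤ centralizer ((P : Subgroup G) : Set G) := by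
    intro g _
    rw [mem_centralizer_iff]
    intro x hx
    exact ((mem_center_iff.1 (hP hx)) g).symm
  exact ⟨P, (MonoidHom.transferSylow P h).ker, MonoidHom.normal_ker _,
    MonoidHom.ker_transferSylow_isComplement' P h⟩

/-- The final case: `N` is a normal Sylow `p`-subgroup and no Sylow number is divisible by `p`. -/
theorem of_normal_sylow {G : Type*} [Group G] [Finite G] {p : ℕ} [hp : Fact p.Prime]
    (P : Sylow p G) (hPn : (P : Subgroup G).Normal)
    (h : ∀ (r : ℕ) [Fact r.Prime], ¬ p ∣ Nat.card (Sylow r G)) :
    Cfsg.HasNormalPComplement p G := by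
  -- Sylow `r`-subgroups, `r ≠ p`, centralize `P`
  have hcent : ∀ (r : ℕ) [Fact r.Prime], r ≠ p → ∀ R : Sylow r G,
      (R : Subgroup G) ≤ centralizer ((P : Subgroup G) : Set G) := by
    intro r hr hrp R
    have h1 : ¬ p ∣ (normalizer ((R : Subgroup G) : Set G)).index := by
      rw [← card_eq_index R]
      exact h r
    have hPN : (P : Subgroup G) ≤ normalizer ((R : Subgroup G) : Set G) := by
      obtain ⟨Q⟩ : Nonempty (Sylow p (normalizer ((R : Subgroup G) : Set G))) := inferInstance
      have hQ : ¬ p ∣ ((Q : Subgroup _).map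
          (normalizer ((R : Subgroup G) : Set G)).subtype).index := by
        rw [Subgroup.index_map_subtype]
        exact hp.out.not_dvd_mul Q.not_dvd_index h1
      have hsub : Subsingleton (Sylow p G) := (Sylow.unique_of_normal P hPn).instSubsingleton
      have h2 : (Q.2.map (normalizer ((R : Subgroup G) : Set G)).subtype).toSylow hQ = P :=
        Subsingleton.elim _ _
      rw [← h2, IsPGroup.toSylow_coe]
      exact map_subtype_le _
    have hdisj : Disjoint (P : Subgroup G) (R : Subgroup G) :=
      IsPGroup.disjoint_of_ne (p₁ := p) (p₂ := r) (Ne.symm hrp) _ _ P.2 R.2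
    intro x hx
    rw [mem_centralizer_iff]
    intro y hy
    have h3 : y * x * y⁻¹ * x⁻¹ = 1 := by
      have h4 : y * x * y⁻¹ * x⁻¹ ∈ (R : Subgroup G) :=
        mul_mem ((mem_normalizer_iff.1 (hPN hy) x).1 hx) (inv_mem hx)
      have h5 : y * x * y⁻¹ * x⁻¹ ∈ (P : Subgroup G) := by
        have h6 : x * y⁻¹ * x⁻¹ ∈ (P : Subgroup G) := hPn.conj_mem _ (inv_mem hy) x
        have h7 : y * x * y⁻¹ * x⁻¹ = y * (x * y⁻¹ * x⁻¹) := by group
        rw [h7]
        exact mul_mem hy h6
      exact (Subgroup.disjoint_def.1 hdisj) h5 h4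
    have h8 : y * x = (y * x * y⁻¹ * x⁻¹) * (x * y) := by group
    rw [h8, h3, one_mul]
  set C := centralizer ((P : Subgroup G) : Set G) with hC
  have hCn : C.Normal := by
    have := hPn
    infer_instance
  -- `G / C` is a `p`-group
  have hGC : IsPGroup p (G ⧸ C) := by
    rw [IsPGroup.iff_card]
    have hne : C.index ≠ 0 := index_ne_zero_of_finite
    refine ⟨C.index.primeFactorsList.length, ?_⟩
    rw [← Subgroup.index_eq_card]
    refine (Nat.eq_prime_pow_of_unique_prime_dvd hne ?_)
    intro r hr hrd
    by_contra hrp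
    have := Fact.mk hr
    obtain ⟨R⟩ : Nonempty (Sylow r G) := inferInstance
    have h1 : C.index ∣ (R : Subgroup G).index := Subgroup.index_dvd_of_le (hcent r hrp R)
    exact R.not_dvd_index (hrd.trans h1)
  -- `C` has a central Sylow `p`-subgroup
  have hCp : Cfsg.HasNormalPComplement p C := by
    obtain ⟨Q⟩ : Nonempty (Sylow p C) := inferInstance
    apply of_central_sylow Q
    intro x hx
    have hxP : (x : G) ∈ (P : Subgroup G) := by
      have h1 : IsPGroup p ((Q : Subgroup C).map C.subtype) := Q.2.map _
      obtain ⟨P', hP'⟩ := h1.exists_le_sylow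
      have hsub : Subsingleton (Sylow p G) := (Sylow.unique_of_normal P hPn).instSubsingleton
      have h2 : P' = P := Subsingleton.elim _ _
      rw [← h2]
      exact hP' ⟨x, hx, rfl⟩
    rw [mem_center_iff]
    intro y
    apply Subtype.ext
    have := (mem_centralizer_iff.1 y.2) (x : G) hxP
    exact this.symm
  exact of_normal C hCp hGC

theorem main (p : ℕ) [hp : Fact p.Prime]
    (Sim : ∀ (S : Type u) [Group S] [Finite S] [IsSimpleGroup S], (∃ a b : S, a * b ≠ b * a) →
      p ∣ Nat.card S → ∃ (r : ℕ) (_ : Fact r.Prime), p ∣ Nat.card (Sylow r S)) (n : ℕ) :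
    ∀ (G : Type u) [Group G] [Finite G] (_ : Nat.card G = n)
      (_ : ∀ (r : ℕ) [Fact r.Prime], ¬ p ∣ Nat.card (Sylow r G)),
      Cfsg.HasNormalPComplement p G := by
  induction n using Nat.strong_induction_on with
  | _ n ih =>
    intro G _ _ hn h
    by_cases hpG : p ∣ Nat.card G
    swap
    · -- `G` is a `p'`-group
      refine hasNormalPComplement_iff.mpr ⟨⊤, inferInstance, ?_, ?_⟩
      · rw [card_top]
        exact ((Nat.Prime.coprime_iff_not_dvd hp.out).2 hpG).symm
      · have : Subsingleton (G ⧸ (⊤ : Subgroup G)) := QuotientGroup.subsingleton_quotient_top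
        exact IsPGroup.of_card (n := 0) (by rw [pow_zero]; exact Nat.card_of_subsingleton 1)
    have hnt : Nontrivial G := by
      rw [← Finite.one_lt_card_iff_nontrivial]
      have := Nat.le_of_dvd Nat.card_pos hpG
      exact lt_of_lt_of_le hp.out.one_lt this
    by_cases hs : IsSimpleGroup G
    · by_cases hab : ∃ a b : G, a * b ≠ b * a
      · obtain ⟨r, hr, hd⟩ := Sim G hab hpG
        exact absurd hd (h r)
      · push Not at hab
        obtain ⟨P⟩ : Nonempty (Sylow p G) := inferInstance
        exact of_central_sylow P (fun x _ => mem_center_iff.2 fun y => hab y x)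
    · have : ∃ N : Subgroup G, N.Normal ∧ N ≠ ⊥ ∧ N ≠ ⊤ := by
        by_contra hcon
        push Not at hcon
        apply hs
        exact ⟨fun N hN => by
          by_cases h : N = ⊥
          · exact Or.inl h
          · exact Or.inr (hcon N hN h)⟩
      obtain ⟨N, hN, hbot, htop⟩ := this
      have hquot : ∀ (K : Subgroup G) [K.Normal], K ≠ ⊥ → Cfsg.HasNormalPComplement p (G ⧸ K) := by
        intro K _ hK
        have hcardmul : Nat.card K * K.index = Nat.card G := K.card_mul_index
        have hIpos : 0 < K.index := Nat.pos_of_ne_zero (Subgroup.index_ne_zero_of_finite)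
        have h1 : 1 < Nat.card K := by
          rw [Finite.one_lt_card_iff_nontrivial]
          exact (Subgroup.nontrivial_iff_ne_bot _).2 hK
        have hIlt : Nat.card (G ⧸ K) < n := by
          rw [← hn, ← hcardmul, ← Subgroup.index_eq_card]
          exact lt_mul_of_one_lt_left hIpos h1
        exact ih _ hIlt (G ⧸ K) rfl fun r _ hd => h r (hd.trans (card_sylow_quotient_dvd r K))
      have hnorm : ∀ (K : Subgroup G) [K.Normal], K ≠ ⊤ → Cfsg.HasNormalPComplement p K := by
        intro K _ hK
        have hlt : Nat.card K < n := by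
          rw [← hn]
          exact lt_of_le_of_ne (Subgroup.card_le_card_group K)
            (fun h => hK (Subgroup.eq_top_of_card_eq K h))
        exact ih _ hlt K rfl fun r _ hd => h r (hd.trans (card_sylow_normal_dvd r K))
      have hNp := hnorm N htop
      -- the normal `p`-complement of `N`
      set K : Subgroup G := (Cfsg.pResidual p N).map N.subtype with hK
      have hchar : (Cfsg.pResidual p N).Characteristic := by
        rw [Subgroup.characteristic_iff_map_le]
        intro f
        rw [Cfsg.pResidual, MonoidHom.map_closure, closure_le]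
        rintro _ ⟨x, hx, rfl⟩
        apply mem_pResidual_of_coprime
        have hx' : (orderOf x).Coprime p := hx
        have : orderOf (f x) = orderOf x := MulEquiv.orderOf_eq f x
        change (orderOf (f x)).Coprime p
        rwa [this]
      have hKn : K.Normal := by
        rw [hK]
        infer_instance
      have hKc : (Nat.card K).Coprime p :=
        Nat.Coprime.coprime_dvd_left (Subgroup.card_map_dvd _ _)
          (hasNormalPComplement_iff_coprime.1 hNp)
      by_cases hKb : K = ⊥
      swap
      · exact of_quotient K hKc (hquot K hKb)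
      -- now `N` is a `p`-group
      have hNpg : IsPGroup p N := by
        obtain ⟨M, hM, h1, h2⟩ := hasNormalPComplement_iff.mp hNp
        have h3 := eq_pResidual M h1 h2
        have h4 : M = ⊥ := by
          rw [h3]
          rw [hK, Subgroup.map_eq_bot_iff_of_injective _ N.subtype_injective] at hKb
          exact hKb
        subst h4
        exact h2.of_injective (QuotientGroup.mk' ⊥)
          (by rw [← MonoidHom.ker_eq_bot_iff]; exact QuotientGroup.ker_mk' _)
      -- the preimage `M` of the `p`-complement of `G / N`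
      obtain ⟨M', hM', h1, h2⟩ := hasNormalPComplement_iff.mp (hquot N hbot)
      set M : Subgroup G := M'.comap (QuotientGroup.mk' N) with hMdef
      have hMn : M.Normal := hM'.comap _
      have hGM : IsPGroup p (G ⧸ M) := by
        intro x
        obtain ⟨g, rfl⟩ := QuotientGroup.mk_surjective x
        obtain ⟨k, hk⟩ := h2 (((g : G) : G ⧸ N) : (G ⧸ N) ⧸ M')
        refine ⟨k, ?_⟩
        rw [← QuotientGroup.mk_pow] at hk ⊢
        rw [← QuotientGroup.mk_pow] at hk
        rw [QuotientGroup.eq_one_iff] at hk ⊢
        exact hk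
      by_cases hMtop : M = ⊤
      swap
      · exact of_normal M (hnorm M hMtop) hGM
      -- `G / N` is a `p'`-group, so `N` is the Sylow `p`-subgroup
      have hM'top : M' = ⊤ := by
        rw [eq_top_iff]
        intro x _
        obtain ⟨g, rfl⟩ := QuotientGroup.mk_surjective x
        have : g ∈ M := hMtop ▸ mem_top g
        exact this
      have hidx : ¬ p ∣ N.index := by
        rw [Subgroup.index_eq_card]
        rw [hM'top, card_top] at h1
        exact (Nat.Prime.coprime_iff_not_dvd hp.out).1 h1.symm
      refine of_normal_sylow (hNpg.toSylow hidx) ?_ h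
      rw [IsPGroup.toSylow_coe]
      exact hN

/-- **Reduction of S3932 to simple groups.** -/
theorem of_simple {G : Type u} [Group G] [Finite G] (p : ℕ) [Fact p.Prime]
    (Sim : ∀ (S : Type u) [Group S] [Finite S] [IsSimpleGroup S], (∃ a b : S, a * b ≠ b * a) →
      p ∣ Nat.card S → ∃ (r : ℕ) (_ : Fact r.Prime), p ∣ Nat.card (Sylow r S)) :
    Cfsg.HasNormalPComplement p G ↔ ∀ (r : ℕ) [Fact r.Prime], ¬ p ∣ Nat.card (Sylow r G) :=
  ⟨fun h r _ => forward h r, fun h => main p Sim (Nat.card G) G rfl h⟩

end Cfsg.Agent.H482.PNilpRed
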