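import Cfsg.Agent.H482.SzCert

/-!
# The Suzuki identities (generated)
-/

set_option autoImplicit false

namespace Cfsg.Agent.H482.SzNum

open Cfsg.Agent.H482.F2Poly Cfsg.Agent.H482.SzCert

/-- The sixteen basic relations. -/
structure Rel {F : Type*} [CommRing F] (w f d e o r p : F) : Prop where

  r0 : w ^ 2 * o + f * e * o + e * o + o + r = 0

  r1 : w ^ 2 * r + f * o + f * r + e * o + r = 0

  r2 : d ^ 2 * o + d ^ 2 * r + f * r + o ^ 2 + o = 0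

  r3 : w ^ 2 * d + w * f * d + w * f + f ^ 2 + f * d + 1 = 0

  r4 : w ^ 2 * o + f ^ 2 * o + w ^ 2 + f * e + d ^ 2 + f = 0

  r5 : w ^ 2 * o + w * f * o + f * o + d * e + d + e + 1 = 0

  r6 : w * d * o + d * e * o + w * o + w * r + f * o + d * r + r = 0

  r7 : f * o ^ 2 + f * o * r + e * o ^ 2 + e * r + o ^ 2 + o * r + r = 0

  r8 : d ^ 2 * e + w ^ 2 + f * e + f * o + f + e + o + 1 = 0

  r9 : w ^ 2 * d + w * d ^ 2 + w * d * e + w * f + f * d + f * e + f * o + d ^ 2 + d * e + w + f = 0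

  r10 : w ^ 2 * e + f * e ^ 2 + w ^ 2 + f * e + f * o + f * r + e ^ 2 + e * o + o + r + 1 = 0

  r11 : w * f * r + w * d * o + f * d * o + f * d * r + w * o + w * r + f * o + f * r + d * o + o + r = 0

  r12 : w ^ 3 + w ^ 2 * d + w * f * e + f * d * e + w ^ 2 + w * d + w * e + f * e + f + d + e + 1 = 0

  r13 : w ^ 2 * d + w ^ 2 * o + w * d ^ 2 + w * e * o + d * e ^ 2 + w * f + w * d + w * e + w * o + w * r + f * d + f * o + d ^ 2 + d * e + e * o + d + e + r + 1 = 0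

  r14 : w ^ 2 * d ^ 2 + w ^ 2 * o + f ^ 2 + d ^ 2 + e = 0

  r15 : d * e * p + w ^ 2 + f * e + p ^ 2 = 0


/-- The numbers attached to a point. -/
structure Pt {F : Type*} [CommRing F] (w f d e o r p q W0 W1 W2 T0 T1 T2 K : F) : Prop where
  rel : Rel w f d e o r p
  hp : p ≠ 0
  hq0 : q ≠ 0
  hq : q = d * p + f
  hW0 : d ^ 2 * e + d * e + d * p + f + d + o + p = q * W0
  hW1 : d * e + d + p = p * W1
  hW2 : d * e * p + d * p + o * p + p ^ 2 + e = q * W2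
  hT0 : d ^ 2 * e ^ 2 + d ^ 2 * e + d * p + p ^ 2 + f + e + r = p ^ 2 * T0
  hT1 : d ^ 2 * e + d * p + f + e = q * T1
  hT2 : d ^ 3 * e * p + f * d ^ 2 * e + d ^ 2 * p ^ 2 + d * e * p + d * r * p + f ^ 2 + f * e + f * r + d ^ 2 = p ^ 2 * T2
  hK : d ^ 2 * e * o * p + f * d ^ 2 * e + f * d * e * o + f * d * e * p + d ^ 3 * e + d ^ 2 * e * p + d * e * o * p + d * e * p ^ 2 + d * o * p ^ 2 + f * d * e + f * e * o + f * p ^ 2 + d ^ 2 * e + d ^ 2 * p + o * p ^ 2 + p ^ 3 + f ^ 2 + f * e + f * o + d ^ 2 + d * o + d * p + e * p + e = q * K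

variable {F : Type*} [Field F] [CharP F 2] {w f d e o r p q W0 W1 W2 T0 T1 T2 K : F}

theorem cone0 (H : Pt w f d e o r p q W0 W1 W2 T0 T1 T2 K) :
    K * W0 + T0 * W2 + W1 * T1 = 0 := by
  have h := evS_eq_zero Rs [w, f, d, e, o, r, p] _ check_cone0
  simp only [N_cone0, C_cone0, List.cons_append, List.nil_append, evS, evProd, List.map_cons, List.map_nil] at h
  simp only [ev_a_p w f d e o r p,
    (ev_a_q w f d e o r p).trans H.hq.symm,
    ev_a_o w f d e o r p,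
    ev_a_r w f d e o r p,
    (ev_a_nW0 w f d e o r p).trans H.hW0,
    (ev_a_nz w f d e o r p).trans H.hW1,
    (ev_a_nW2 w f d e o r p).trans H.hW2,
    (ev_a_nT0 w f d e o r p).trans H.hT0,
    (ev_a_nZ w f d e o r p).trans H.hT1,
    (ev_a_nT2 w f d e o r p).trans H.hT2,
    (ev_a_nK w f d e o r p).trans H.hK,
    (ev_R0 w f d e o r p).trans H.rel.r0,
    (ev_R1 w f d e o r p).trans H.rel.r1,
    (ev_R2 w f d e o r p).trans H.rel.r2,
    (ev_R3 w f d e o r p).trans H.rel.r3,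
    (ev_R4 w f d e o r p).trans H.rel.r4,
    (ev_R5 w f d e o r p).trans H.rel.r5,
    (ev_R6 w f d e o r p).trans H.rel.r6,
    (ev_R7 w f d e o r p).trans H.rel.r7,
    (ev_R8 w f d e o r p).trans H.rel.r8,
    (ev_R9 w f d e o r p).trans H.rel.r9,
    (ev_R10 w f d e o r p).trans H.rel.r10,
    (ev_R11 w f d e o r p).trans H.rel.r11,
    (ev_R12 w f d e o r p).trans H.rel.r12,
    (ev_R13 w f d e o r p).trans H.rel.r13,
    (ev_R14 w f d e o r p).trans H.rel.r14,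
    (ev_R15 w f d e o r p).trans H.rel.r15,
    zero_mul, add_zero, mul_zero] at h
  refine (mul_eq_zero.1 (?_ : (p ^ 2 * q ^ 2) * _ = 0)).resolve_left (mul_ne_zero (pow_ne_zero _ H.hp) (pow_ne_zero _ H.hq0))
  linear_combination h

theorem cone1 (H : Pt w f d e o r p q W0 W1 W2 T0 T1 T2 K) :
    W1 * K + T0 * o + T2 * W0 = 0 := by
  have h := evS_eq_zero Rs [w, f, d, e, o, r, p] _ check_cone1
  simp only [N_cone1, C_cone1, List.cons_append, List.nil_append, evS, evProd, List.map_cons, List.map_nil] at h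
  simp only [ev_a_p w f d e o r p,
    (ev_a_q w f d e o r p).trans H.hq.symm,
    ev_a_o w f d e o r p,
    ev_a_r w f d e o r p,
    (ev_a_nW0 w f d e o r p).trans H.hW0,
    (ev_a_nz w f d e o r p).trans H.hW1,
    (ev_a_nW2 w f d e o r p).trans H.hW2,
    (ev_a_nT0 w f d e o r p).trans H.hT0,
    (ev_a_nZ w f d e o r p).trans H.hT1,
    (ev_a_nT2 w f d e o r p).trans H.hT2,
    (ev_a_nK w f d e o r p).trans H.hK,
    (ev_R0 w f d e o r p).trans H.rel.r0,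
    (ev_R1 w f d e o r p).trans H.rel.r1,
    (ev_R2 w f d e o r p).trans H.rel.r2,
    (ev_R3 w f d e o r p).trans H.rel.r3,
    (ev_R4 w f d e o r p).trans H.rel.r4,
    (ev_R5 w f d e o r p).trans H.rel.r5,
    (ev_R6 w f d e o r p).trans H.rel.r6,
    (ev_R7 w f d e o r p).trans H.rel.r7,
    (ev_R8 w f d e o r p).trans H.rel.r8,
    (ev_R9 w f d e o r p).trans H.rel.r9,
    (ev_R10 w f d e o r p).trans H.rel.r10,
    (ev_R11 w f d e o r p).trans H.rel.r11,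
    (ev_R12 w f d e o r p).trans H.rel.r12,
    (ev_R13 w f d e o r p).trans H.rel.r13,
    (ev_R14 w f d e o r p).trans H.rel.r14,
    (ev_R15 w f d e o r p).trans H.rel.r15,
    zero_mul, add_zero, mul_zero] at h
  refine (mul_eq_zero.1 (?_ : (p ^ 2 * q ^ 1) * _ = 0)).resolve_left (mul_ne_zero (pow_ne_zero _ H.hp) (pow_ne_zero _ H.hq0))
  linear_combination h

theorem fin0 (H : Pt w f d e o r p q W0 W1 W2 T0 T1 T2 K) {Y0 Y1 Y2 Y3 X0 X1 X2 X3 A2 A3 U0 U1 B2 B3 V0 V1 B : F}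
    (hY0 : Y0 = W0 + W2 + o)
    (hY1 : Y1 = W1 + o)
    (hY2 : Y2 = W2 + p * Y0)
    (hY3 : Y3 = o + p * Y1 + q * Y0)
    (hX0 : X0 = 1 + o * W0 + K)
    (hX1 : X1 = o * W1 + T2)
    (hX2 : X2 = o * W2 + r)
    (hX3 : X3 = o ^ 2)
    (hA2 : A2 = X2 + p * X0)
    (hA3 : A3 = X3 + p * X1 + q * X0)
    (hU0 : U0 = X0 + A2 + A3)
    (hU1 : U1 = X1 + A3)
    (hB2 : B2 = A2 + p * U0)
    (hB3 : B3 = A3 + p * U1 + q * U0)
    (hV0 : V0 = U0 + B2 + B3)
    (hV1 : V1 = U1 + B3)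
    (hB : B = Y0 * o + Y1 * W2 + Y2 * W1 + Y3 * W0) :
    (Y0 + B * W0 + (T0 * Y2 + T1 * Y1 + K * Y0)) + V0 = 0 := by
  have h := evS_eq_zero Rs [w, f, d, e, o, r, p] _ check_fin0
  simp only [N_fin0, C_fin0, List.cons_append, List.nil_append, evS, evProd, List.map_cons, List.map_nil] at h
  simp only [ev_a_p w f d e o r p,
    (ev_a_q w f d e o r p).trans H.hq.symm,
    ev_a_o w f d e o r p,
    ev_a_r w f d e o r p,
    (ev_a_nW0 w f d e o r p).trans H.hW0,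
    (ev_a_nz w f d e o r p).trans H.hW1,
    (ev_a_nW2 w f d e o r p).trans H.hW2,
    (ev_a_nT0 w f d e o r p).trans H.hT0,
    (ev_a_nZ w f d e o r p).trans H.hT1,
    (ev_a_nT2 w f d e o r p).trans H.hT2,
    (ev_a_nK w f d e o r p).trans H.hK,
    (ev_R0 w f d e o r p).trans H.rel.r0,
    (ev_R1 w f d e o r p).trans H.rel.r1,
    (ev_R2 w f d e o r p).trans H.rel.r2,
    (ev_R3 w f d e o r p).trans H.rel.r3,
    (ev_R4 w f d e o r p).trans H.rel.r4,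
    (ev_R5 w f d e o r p).trans H.rel.r5,
    (ev_R6 w f d e o r p).trans H.rel.r6,
    (ev_R7 w f d e o r p).trans H.rel.r7,
    (ev_R8 w f d e o r p).trans H.rel.r8,
    (ev_R9 w f d e o r p).trans H.rel.r9,
    (ev_R10 w f d e o r p).trans H.rel.r10,
    (ev_R11 w f d e o r p).trans H.rel.r11,
    (ev_R12 w f d e o r p).trans H.rel.r12,
    (ev_R13 w f d e o r p).trans H.rel.r13,
    (ev_R14 w f d e o r p).trans H.rel.r14,
    (ev_R15 w f d e o r p).trans H.rel.r15,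
    zero_mul, add_zero, mul_zero] at h
  subst hB hV1 hV0 hB3 hB2 hU1 hU0 hA3 hA2 hX3 hX2 hX1 hX0 hY3 hY2 hY1 hY0
  refine (mul_eq_zero.1 (?_ : (p ^ 2 * q ^ 2) * _ = 0)).resolve_left (mul_ne_zero (pow_ne_zero _ H.hp) (pow_ne_zero _ H.hq0))
  linear_combination h

theorem fin1 (H : Pt w f d e o r p q W0 W1 W2 T0 T1 T2 K) {Y0 Y1 Y2 Y3 X0 X1 X2 X3 A2 A3 U0 U1 B2 B3 V0 V1 B : F}
    (hY0 : Y0 = W0 + W2 + o)
    (hY1 : Y1 = W1 + o)
    (hY2 : Y2 = W2 + p * Y0)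
    (hY3 : Y3 = o + p * Y1 + q * Y0)
    (hX0 : X0 = 1 + o * W0 + K)
    (hX1 : X1 = o * W1 + T2)
    (hX2 : X2 = o * W2 + r)
    (hX3 : X3 = o ^ 2)
    (hA2 : A2 = X2 + p * X0)
    (hA3 : A3 = X3 + p * X1 + q * X0)
    (hU0 : U0 = X0 + A2 + A3)
    (hU1 : U1 = X1 + A3)
    (hB2 : B2 = A2 + p * U0)
    (hB3 : B3 = A3 + p * U1 + q * U0)
    (hV0 : V0 = U0 + B2 + B3)
    (hV1 : V1 = U1 + B3)
    (hB : B = Y0 * o + Y1 * W2 + Y2 * W1 + Y3 * W0) :
    (Y1 + B * W1 + (T0 * Y3 + K * Y1 + T2 * Y0)) + V1 = 0 := by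
  have h := evS_eq_zero Rs [w, f, d, e, o, r, p] _ check_fin1
  simp only [N_fin1, C_fin1, List.cons_append, List.nil_append, evS, evProd, List.map_cons, List.map_nil] at h
  simp only [ev_a_p w f d e o r p,
    (ev_a_q w f d e o r p).trans H.hq.symm,
    ev_a_o w f d e o r p,
    ev_a_r w f d e o r p,
    (ev_a_nW0 w f d e o r p).trans H.hW0,
    (ev_a_nz w f d e o r p).trans H.hW1,
    (ev_a_nW2 w f d e o r p).trans H.hW2,
    (ev_a_nT0 w f d e o r p).trans H.hT0,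
    (ev_a_nZ w f d e o r p).trans H.hT1,
    (ev_a_nT2 w f d e o r p).trans H.hT2,
    (ev_a_nK w f d e o r p).trans H.hK,
    (ev_R0 w f d e o r p).trans H.rel.r0,
    (ev_R1 w f d e o r p).trans H.rel.r1,
    (ev_R2 w f d e o r p).trans H.rel.r2,
    (ev_R3 w f d e o r p).trans H.rel.r3,
    (ev_R4 w f d e o r p).trans H.rel.r4,
    (ev_R5 w f d e o r p).trans H.rel.r5,
    (ev_R6 w f d e o r p).trans H.rel.r6,
    (ev_R7 w f d e o r p).trans H.rel.r7,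
    (ev_R8 w f d e o r p).trans H.rel.r8,
    (ev_R9 w f d e o r p).trans H.rel.r9,
    (ev_R10 w f d e o r p).trans H.rel.r10,
    (ev_R11 w f d e o r p).trans H.rel.r11,
    (ev_R12 w f d e o r p).trans H.rel.r12,
    (ev_R13 w f d e o r p).trans H.rel.r13,
    (ev_R14 w f d e o r p).trans H.rel.r14,
    (ev_R15 w f d e o r p).trans H.rel.r15,
    zero_mul, add_zero, mul_zero] at h
  subst hB hV1 hV0 hB3 hB2 hU1 hU0 hA3 hA2 hX3 hX2 hX1 hX0 hY3 hY2 hY1 hY0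
  refine (mul_eq_zero.1 (?_ : (p ^ 2 * q ^ 1) * _ = 0)).resolve_left (mul_ne_zero (pow_ne_zero _ H.hp) (pow_ne_zero _ H.hq0))
  linear_combination h

theorem fin2 (H : Pt w f d e o r p q W0 W1 W2 T0 T1 T2 K) {Y0 Y1 Y2 Y3 X0 X1 X2 X3 A2 A3 U0 U1 B2 B3 V0 V1 B : F}
    (hY0 : Y0 = W0 + W2 + o)
    (hY1 : Y1 = W1 + o)
    (hY2 : Y2 = W2 + p * Y0)
    (hY3 : Y3 = o + p * Y1 + q * Y0)
    (hX0 : X0 = 1 + o * W0 + K)
    (hX1 : X1 = o * W1 + T2)
    (hX2 : X2 = o * W2 + r)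
    (hX3 : X3 = o ^ 2)
    (hA2 : A2 = X2 + p * X0)
    (hA3 : A3 = X3 + p * X1 + q * X0)
    (hU0 : U0 = X0 + A2 + A3)
    (hU1 : U1 = X1 + A3)
    (hB2 : B2 = A2 + p * U0)
    (hB3 : B3 = A3 + p * U1 + q * U0)
    (hV0 : V0 = U0 + B2 + B3)
    (hV1 : V1 = U1 + B3)
    (hB : B = Y0 * o + Y1 * W2 + Y2 * W1 + Y3 * W0) :
    (Y2 + B * W2 + (T1 * Y3 + K * Y2 + r * Y0)) + B2 = 0 := by
  have h := evS_eq_zero Rs [w, f, d, e, o, r, p] _ check_fin2
  simp only [N_fin2, C_fin2, List.cons_append, List.nil_append, evS, evProd, List.map_cons, List.map_nil] at h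
  simp only [ev_a_p w f d e o r p,
    (ev_a_q w f d e o r p).trans H.hq.symm,
    ev_a_o w f d e o r p,
    ev_a_r w f d e o r p,
    (ev_a_nW0 w f d e o r p).trans H.hW0,
    (ev_a_nz w f d e o r p).trans H.hW1,
    (ev_a_nW2 w f d e o r p).trans H.hW2,
    (ev_a_nT0 w f d e o r p).trans H.hT0,
    (ev_a_nZ w f d e o r p).trans H.hT1,
    (ev_a_nT2 w f d e o r p).trans H.hT2,
    (ev_a_nK w f d e o r p).trans H.hK,
    (ev_R0 w f d e o r p).trans H.rel.r0,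
    (ev_R1 w f d e o r p).trans H.rel.r1,
    (ev_R2 w f d e o r p).trans H.rel.r2,
    (ev_R3 w f d e o r p).trans H.rel.r3,
    (ev_R4 w f d e o r p).trans H.rel.r4,
    (ev_R5 w f d e o r p).trans H.rel.r5,
    (ev_R6 w f d e o r p).trans H.rel.r6,
    (ev_R7 w f d e o r p).trans H.rel.r7,
    (ev_R8 w f d e o r p).trans H.rel.r8,
    (ev_R9 w f d e o r p).trans H.rel.r9,
    (ev_R10 w f d e o r p).trans H.rel.r10,
    (ev_R11 w f d e o r p).trans H.rel.r11,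
    (ev_R12 w f d e o r p).trans H.rel.r12,
    (ev_R13 w f d e o r p).trans H.rel.r13,
    (ev_R14 w f d e o r p).trans H.rel.r14,
    (ev_R15 w f d e o r p).trans H.rel.r15,
    zero_mul, add_zero, mul_zero] at h
  subst hB hV1 hV0 hB3 hB2 hU1 hU0 hA3 hA2 hX3 hX2 hX1 hX0 hY3 hY2 hY1 hY0
  refine (mul_eq_zero.1 (?_ : (p ^ 1 * q ^ 2) * _ = 0)).resolve_left (mul_ne_zero (pow_ne_zero _ H.hp) (pow_ne_zero _ H.hq0))
  linear_combination h

theorem fin3 (H : Pt w f d e o r p q W0 W1 W2 T0 T1 T2 K) {Y0 Y1 Y2 Y3 X0 X1 X2 X3 A2 A3 U0 U1 B2 B3 V0 V1 B : F}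
    (hY0 : Y0 = W0 + W2 + o)
    (hY1 : Y1 = W1 + o)
    (hY2 : Y2 = W2 + p * Y0)
    (hY3 : Y3 = o + p * Y1 + q * Y0)
    (hX0 : X0 = 1 + o * W0 + K)
    (hX1 : X1 = o * W1 + T2)
    (hX2 : X2 = o * W2 + r)
    (hX3 : X3 = o ^ 2)
    (hA2 : A2 = X2 + p * X0)
    (hA3 : A3 = X3 + p * X1 + q * X0)
    (hU0 : U0 = X0 + A2 + A3)
    (hU1 : U1 = X1 + A3)
    (hB2 : B2 = A2 + p * U0)
    (hB3 : B3 = A3 + p * U1 + q * U0)
    (hV0 : V0 = U0 + B2 + B3)
    (hV1 : V1 = U1 + B3)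
    (hB : B = Y0 * o + Y1 * W2 + Y2 * W1 + Y3 * W0) :
    (Y3 + B * o + (K * Y3 + T2 * Y2 + r * Y1)) + B3 = 0 := by
  have h := evS_eq_zero Rs [w, f, d, e, o, r, p] _ check_fin3
  simp only [N_fin3, C_fin3, List.cons_append, List.nil_append, evS, evProd, List.map_cons, List.map_nil] at h
  simp only [ev_a_p w f d e o r p,
    (ev_a_q w f d e o r p).trans H.hq.symm,
    ev_a_o w f d e o r p,
    ev_a_r w f d e o r p,
    (ev_a_nW0 w f d e o r p).trans H.hW0,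
    (ev_a_nz w f d e o r p).trans H.hW1,
    (ev_a_nW2 w f d e o r p).trans H.hW2,
    (ev_a_nT0 w f d e o r p).trans H.hT0,
    (ev_a_nZ w f d e o r p).trans H.hT1,
    (ev_a_nT2 w f d e o r p).trans H.hT2,
    (ev_a_nK w f d e o r p).trans H.hK,
    (ev_R0 w f d e o r p).trans H.rel.r0,
    (ev_R1 w f d e o r p).trans H.rel.r1,
    (ev_R2 w f d e o r p).trans H.rel.r2,
    (ev_R3 w f d e o r p).trans H.rel.r3,
    (ev_R4 w f d e o r p).trans H.rel.r4,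
    (ev_R5 w f d e o r p).trans H.rel.r5,
    (ev_R6 w f d e o r p).trans H.rel.r6,
    (ev_R7 w f d e o r p).trans H.rel.r7,
    (ev_R8 w f d e o r p).trans H.rel.r8,
    (ev_R9 w f d e o r p).trans H.rel.r9,
    (ev_R10 w f d e o r p).trans H.rel.r10,
    (ev_R11 w f d e o r p).trans H.rel.r11,
    (ev_R12 w f d e o r p).trans H.rel.r12,
    (ev_R13 w f d e o r p).trans H.rel.r13,
    (ev_R14 w f d e o r p).trans H.rel.r14,
    (ev_R15 w f d e o r p).trans H.rel.r15,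
    zero_mul, add_zero, mul_zero] at h
  subst hB hV1 hV0 hB3 hB2 hU1 hU0 hA3 hA2 hX3 hX2 hX1 hX0 hY3 hY2 hY1 hY0
  refine (mul_eq_zero.1 (?_ : (p ^ 2 * q ^ 1) * _ = 0)).resolve_left (mul_ne_zero (pow_ne_zero _ H.hp) (pow_ne_zero _ H.hq0))
  linear_combination h

end Cfsg.Agent.H482.SzNum
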